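import Groth.Agent.BorelLib.Reductive
import Groth.Agent.BorelLib.RedBridge

/-!
Reductivity of groups of points over extensions of algebraically closed fields.
-/

set_option autoImplicit false
set_option linter.style.haveILetI false
set_option linter.unusedSectionVars false
set_option synthInstance.maxHeartbeats 200000
set_option maxHeartbeats 1000000

noncomputable section

universe u

open WithConv
open scoped TensorProduct

namespace Groth.Agent.BorelLib

attribute [local instance] pTop pTopTensor

namespace RedExt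

variable {k : Type u} [Field k] {K : Type u} [Field K] [Algebra k K] {A : Type u} [CommRing A] [HopfAlgebra k A]

/-- Restriction of an extended point to the original ring. -/
def res (u : Pt K (K ⊗[k] A)) : A →ₐ[k] K :=
  (u.ofConv.restrictScalars k).comp Algebra.TensorProduct.includeRight

theorem res_apply (u : Pt K (K ⊗[k] A)) (a : A) : res u a = u.ofConv (1 ⊗ₜ a) := rfl

theorem res_one (a : A) : res (1 : Pt K (K ⊗[k] A)) a = algebraMap k K (CoalgebraStruct.counit (R := k) a) := by
  rw [res_apply, AlgHom.convOne_apply]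
  simp [TensorProduct.counit_tmul, Algebra.algebraMap_eq_smul_one]

theorem res_mul (u v : Pt K (K ⊗[k] A)) (a : A) :
    res (u * v) a = Algebra.TensorProduct.lift (res u) (res v) (fun _ _ => Commute.all _ _)
      (CoalgebraStruct.comul (R := k) a) := by
  rw [res_apply, AlgHom.convMul_apply]
  rw [TensorProduct.comul_tmul, CommSemiring.comul_apply]
  generalize CoalgebraStruct.comul (R := k) a = z
  induction z using TensorProduct.induction_on with
  | zero => simp
  | add p q hp hq => simp only [TensorProduct.tmul_add, map_add, hp, hq]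
  | tmul p q =>
    rw [Algebra.TensorProduct.lift_tmul]
    simp [res_apply, TensorProduct.AlgebraTensorModule.tensorTensorTensorComm_tmul]

theorem ext_res {u v : Pt K (K ⊗[k] A)} (h : ∀ a, res u a = res v a) : u = v := by
  apply WithConv.ext
  refine Algebra.TensorProduct.ext (Subsingleton.elim _ _) (AlgHom.ext fun a => ?_)
  exact h a

/-- A point over the extension. -/
def ext (g : Pt k A) : Pt K (K ⊗[k] A) :=
  toConv (Algebra.TensorProduct.lift (AlgHom.id K K) ((Algebra.ofId k K).comp g.ofConv) fun _ _ => Commute.all _ _)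

theorem res_ext (g : Pt k A) (a : A) : res (ext (K := K) g) a = algebraMap k K (g.ofConv a) := by
  simp [res_apply, ext, Algebra.ofId_apply]

theorem ext_one : ext (K := K) (1 : Pt k A) = 1 :=
  ext_res fun a => by rw [res_ext, res_one, AlgHom.convOne_apply]; simp

theorem ext_mul (g h : Pt k A) : ext (K := K) (g * h) = ext g * ext h := ext_res fun a => by
  rw [res_ext, res_mul, AlgHom.convMul_apply]
  generalize CoalgebraStruct.comul (R := k) a = z
  induction z using TensorProduct.induction_on with
  | zero => simp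
  | add p q hp hq => simp only [map_add, hp, hq]
  | tmul p q => simp [res_ext]

theorem ext_inv (g : Pt k A) : ext (K := K) g⁻¹ = (ext (K := K) g)⁻¹ :=
  eq_inv_of_mul_eq_one_left (by rw [← ext_mul, inv_mul_cancel, ext_one])

variable [IsAlgClosed k] [Algebra.FiniteType k A]

theorem pairs_separate [_root_.IsReduced A] {z : A ⊗[k] A}
    (h : ∀ g g' : Pt k A, Algebra.TensorProduct.lift g.ofConv g'.ofConv (fun _ _ => Commute.all _ _) z = 0) :
    z = 0 := by
  classical
  let b := Module.Free.chooseBasis k A
  obtain ⟨c, rfl⟩ := TensorProduct.eq_repr_basis_right b z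
  have hc : ∀ i, c i = 0 := fun i => eq_zero_of_forall (k := k) fun g => by
    have e : ∀ g' : Pt k A, g'.ofConv (c.sum fun j a => g.ofConv a • b j) = 0 := fun g' => by
      have := h g g'
      simpa [Finsupp.sum, map_sum, Algebra.TensorProduct.lift_tmul] using this
    have h0 : (c.sum fun j a => g.ofConv a • b j) = 0 := eq_zero_of_forall e
    have h1 := congrArg (fun x => b.repr x i) h0
    simp only [Finsupp.sum, map_sum, map_smul, Module.Basis.repr_self, map_zero, Finsupp.finsetSum_apply,
      Finsupp.smul_single, smul_eq_mul, mul_one, Finsupp.single_apply, Finsupp.zero_apply] at h1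
    rw [Finset.sum_ite_eq'] at h1
    split at h1
    · exact h1
    · next hi => rw [Finsupp.notMem_support_iff.1 hi, map_zero]
  simp [Finsupp.sum, hc]

variable [IsAlgClosed K]

/-- A representation in coordinates extends. -/
theorem exists_bcRep [_root_.IsReduced A] {n : ℕ} (m : Pt k A → Matrix (Fin n) (Fin n) k) (h1 : m 1 = 1)
    (hm : ∀ g h, m (g * h) = m g * m h) (a : Fin n → Fin n → A) (ha : ∀ g i j, m g i j = g.ofConv (a i j)) :
    ∃ r : RegRep (⊤ : Subgroup (Pt K (K ⊗[k] A))) (Fin n → K),
      ∀ u, r.ρ u = Matrix.toLin' (Matrix.of fun i j => res u (a i j)) := by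
  have hΔ : ∀ i j, CoalgebraStruct.comul (R := k) (a i j) = ∑ l, a i l ⊗ₜ[k] a l j := fun i j => by
    refine sub_eq_zero.1 (pairs_separate fun g g' => ?_)
    rw [map_sub, sub_eq_zero, map_sum]
    simp only [Algebra.TensorProduct.lift_tmul, ← ha]
    rw [← Matrix.mul_apply, ← hm, ha, AlgHom.convMul_apply]
  have hε : ∀ i j, CoalgebraStruct.counit (R := k) (a i j) = (1 : Matrix (Fin n) (Fin n) k) i j := fun i j => by
    rw [← h1, ha, AlgHom.convOne_apply]
    rfl
  refine ⟨
    { ρ := fun u => Matrix.toLin' (Matrix.of fun i j => res u (a i j))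
      map_one := ?_
      map_mul := fun u _ v _ => ?_
      reg := fun φ v => ⟨∑ i, ∑ j, (φ (Pi.single i 1) * v j) • (1 ⊗ₜ[k] a i j), fun u => ?_⟩ }, fun u => rfl⟩
  · rw [show (Matrix.of fun i j => res (1 : Pt K (K ⊗[k] A)) (a i j)) = 1 from Matrix.ext fun i j => by
      rw [Matrix.of_apply, res_one, hε, Matrix.one_apply, Matrix.one_apply]
      split <;> simp]
    exact Matrix.toLin'_one
  · rw [Module.End.mul_eq_comp, ← Matrix.toLin'_mul]
    congr 1
    ext i j
    rw [Matrix.of_apply, res_mul, hΔ, map_sum, Matrix.mul_apply]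
    simp
  · have hv : ∀ w : Fin n → K, φ w = ∑ i, w i * φ (Pi.single i 1) := fun w => by
      conv_lhs => rw [pi_eq_sum_univ w]
      simp only [map_sum, map_smul, smul_eq_mul]
      exact Finset.sum_congr rfl fun i _ => by congr 2; funext j; simp [Pi.single_apply, eq_comm]
    show φ (Matrix.toLin' (Matrix.of fun i j => res u (a i j)) v) = _
    rw [hv]
    simp only [map_sum, map_smul, smul_eq_mul, Matrix.toLin'_apply, Matrix.mulVec, dotProduct, Finset.sum_mul,
      Matrix.of_apply, res_apply]
    exact Finset.sum_congr rfl fun i _ => Finset.sum_congr rfl fun j _ => by ring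

/-- An irreducible representation spans all endomorphisms. -/
theorem span_eq_top {V : Type u} [AddCommGroup V] [Module k V] [FiniteDimensional k V] [Nontrivial V]
    (r : RegRep (⊤ : Subgroup (Pt k A)) V) (hr : r.Irred) :
    Submodule.span k (Set.range r.ρ) = ⊤ := by
  classical
  let S : Subalgebra k (Module.End k V) := Algebra.adjoin k (Set.range r.ρ)
  have hS : (S : Set (Module.End k V)) = Submodule.span k (Set.range r.ρ) := by
    have hcl : (Submonoid.closure (Set.range r.ρ) : Set (Module.End k V)) = Set.range r.ρ := by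
      refine subset_antisymm ?_ Submonoid.subset_closure
      intro x hx
      induction hx using Submonoid.closure_induction with
      | mem y hy => exact hy
      | one => exact ⟨1, r.map_one⟩
      | mul y z _ _ hy hz =>
        obtain ⟨g, rfl⟩ := hy
        obtain ⟨h, rfl⟩ := hz
        exact ⟨g * h, r.map_mul g trivial h trivial⟩
    rw [show (S : Set (Module.End k V)) = ((Subalgebra.toSubmodule S : Submodule k (Module.End k V)) : Set (Module.End k V)) from rfl]
    rw [Algebra.adjoin_eq_span, hcl]
  have hst : ∀ W : Submodule (↥S) V, W = ⊥ ∨ W = ⊤ := fun W => by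
    rcases hr (W.restrictScalars k) (fun g _ w hw => W.smul_mem ⟨r.ρ g, Algebra.subset_adjoin ⟨g, rfl⟩⟩ hw) with h | h
    · exact Or.inl ((Submodule.restrictScalars_eq_bot_iff k ↥S V).1 h)
    · exact Or.inr ((Submodule.restrictScalars_eq_top_iff k ↥S V).1 h)
  haveI : IsSimpleModule ↥S V := { eq_bot_or_eq_top := hst }
  refine eq_top_iff.2 fun f _ => ?_
  have hF : ∀ (e : Module.End ↥S V) (x : V), f (e x) = e (f x) := fun e x => by
    obtain ⟨c, hc⟩ := Module.End.exists_eigenvalue (e.restrictScalars k)
    obtain ⟨v, hv, hv0⟩ := hc.exists_hasEigenvector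
    let E : Submodule ↥S V :=
      { carrier := {y | e y = c • y}
        add_mem' := fun {p q} hp hq => by simp only [Set.mem_setOf_eq] at *; rw [map_add, hp, hq, smul_add]
        zero_mem' := by simp
        smul_mem' := fun s y hy => by simp only [Set.mem_setOf_eq] at *; rw [map_smul, hy, smul_comm] }
    have hE : E = ⊤ := (hst E).resolve_left fun h => hv0 (by
      have hvE : v ∈ E := Module.End.mem_eigenspace_iff.1 hv
      rwa [h, Submodule.mem_bot] at hvE)
    have he : ∀ y, e y = c • y := fun y => (hE.symm ▸ Submodule.mem_top : y ∈ E)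
    rw [he, he, map_smul]
  let F : Module.End (Module.End ↥S V) V := { toFun := f, map_add' := map_add f, map_smul' := fun e x => hF e x }
  let b := Module.finBasis k V
  obtain ⟨s, hs⟩ := jacobson_density F (Finset.univ.image b)
  have : f = (s : Module.End k V) := b.ext fun i => hs (b i) (Finset.mem_image_of_mem _ (Finset.mem_univ i))
  rw [this]
  exact hS.subset s.2

variable [_root_.IsReduced A] (N : Subgroup (Pt K (K ⊗[k] A))) (hNc : IsClosed (N : Set (Pt K (K ⊗[k] A))))
  (hNp : _root_.IsPreconnected (N : Set (Pt K (K ⊗[k] A)))) (hNn : ∀ g, conjSub g N ≤ N) (hNu : ∀ u ∈ N, IsUni u)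

include hNc hNp hNn hNu in
/-- A connected normal unipotent subgroup acts trivially in every irreducible representation defined below. -/
theorem acts_trivially {V : Type u} [AddCommGroup V] [Module k V] [FiniteDimensional k V] [Nontrivial V]
    (r : RegRep (⊤ : Subgroup (Pt k A)) V) (hr : r.Irred) :
    ∃ F : Set A, (∀ u ∈ N, ∀ f ∈ F, res u f = 0) ∧ ∀ g : Pt k A, g ∈ zeros F ↔ r.ρ g = 1 := by
  classical
  let n := Module.finrank k V
  let b := Module.finBasis k V
  let m : Pt k A → Matrix (Fin n) (Fin n) k := fun g => LinearMap.toMatrix b b (r.ρ g)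
  choose a ha using fun i j => r.reg (b.coord i) (b j)
  have ha' : ∀ g i j, m g i j = g.ofConv (a i j) := fun g i j => by
    show LinearMap.toMatrix b b (r.ρ g) i j = _
    rw [LinearMap.toMatrix_apply]
    exact ha i j g
  obtain ⟨rK, hrK⟩ := exists_bcRep (K := K) m (by simp only [m, r.map_one]; exact LinearMap.toMatrix_one b)
    (fun g h => by simp only [m, r.map_mul g trivial h trivial]; exact LinearMap.toMatrix_mul b _ _) a ha'
  have hext : ∀ g, rK.ρ (ext g) = Matrix.toLin' ((m g).map (algebraMap k K)) := fun g => by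
    rw [hrK]
    congr 1
    ext i j
    simp [res_ext, ha']
  let X : Submodule K (Fin n → K) := ⨅ u ∈ N, LinearMap.ker (rK.ρ u - 1)
  have hX : ∀ x, x ∈ X ↔ ∀ u ∈ N, rK.ρ u x = x := fun x => by
    simp only [X, Submodule.mem_iInf, LinearMap.mem_ker, LinearMap.sub_apply, Module.End.one_apply, sub_eq_zero]
  have hn : 0 < n := Module.finrank_pos
  haveI : Nontrivial (Fin n → K) := ⟨⟨0, fun _ => 1, fun h => one_ne_zero (congrFun h.symm ⟨0, hn⟩)⟩⟩
  obtain ⟨w, -, hw0, hw⟩ := rK.exists_weight_of_isSol (le_top : N ≤ ⊤) hNp (isSol_of_uni hNc hNp hNu) (W := ⊤)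
    top_ne_bot fun _ _ _ _ => trivial
  have hwX : w ∈ X := (hX w).2 fun u hu => by
    obtain ⟨c, hc⟩ := hw u hu
    obtain ⟨M, hM⟩ := hNu u hu _ rK
    have hev : ∀ j : ℕ, ((rK.ρ u - 1) ^ j) w = (c - 1) ^ j • w := by
      intro j
      induction j with
      | zero => simp
      | succ j ih =>
        rw [pow_succ', Module.End.mul_apply, ih, map_smul, LinearMap.sub_apply, hc, Module.End.one_apply,
          pow_succ, mul_smul, sub_smul, one_smul]
    have h0 := hev M
    rw [hM, LinearMap.zero_apply, eq_comm, smul_eq_zero] at h0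
    rw [hc, sub_eq_zero.1 (eq_zero_of_pow_eq_zero (h0.resolve_right hw0)), one_smul]
  let Q : Submodule k (Matrix (Fin n) (Fin n) k) :=
    { carrier := {M | ∀ x ∈ X, Matrix.toLin' (M.map (algebraMap k K)) x ∈ X}
      add_mem' := fun {M M'} h h' x hx => by
        rw [Matrix.map_add _ (map_add (algebraMap k K)), map_add]
        exact X.add_mem (h x hx) (h' x hx)
      zero_mem' := fun x hx => by simp
      smul_mem' := fun c M h x hx => by
        rw [show (c • M).map (algebraMap k K) = algebraMap k K c • M.map (algebraMap k K) from Matrix.ext fun i j => by simp,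
          map_smul]
        exact X.smul_mem _ (h x hx) }
  have hQ : ∀ M, M ∈ Q := fun M => by
    have h : Submodule.span k (Set.range r.ρ) ≤ Q.comap (LinearMap.toMatrix b b).toLinearMap := by
      rw [Submodule.span_le]
      rintro _ ⟨g, rfl⟩ x hx
      show Matrix.toLin' ((m g).map (algebraMap k K)) x ∈ X
      rw [← hext, hX]
      intro u hu
      have hu' : (ext (K := K) g)⁻¹ * u * ext (K := K) g ∈ N := hNn (ext (K := K) g)⁻¹ ⟨u, hu, by simp⟩
      conv_rhs => rw [← (hX x).1 hx _ hu']
      rw [← rK.mul_apply trivial trivial, ← rK.mul_apply trivial trivial]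
      congr 1
      congr 1
      group
    have := h (show Matrix.toLin b b M ∈ _ by rw [span_eq_top r hr]; trivial)
    simpa using this
  have htop : X = ⊤ := by
    obtain ⟨j, hj⟩ := Function.ne_iff.1 hw0
    refine eq_top_iff.2 fun x _ => ?_
    rw [pi_eq_sum_univ x]
    refine X.sum_mem fun i _ => ?_
    have h := hQ (Matrix.single i j 1) w hwX
    rw [show Matrix.toLin' ((Matrix.single i j (1 : k)).map (algebraMap k K)) w = w j • fun l => if i = l then 1 else 0 by
      funext l
      simp [Matrix.toLin'_apply, Matrix.mulVec, dotProduct, Matrix.single_apply, apply_ite (algebraMap k K)]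
      split <;> simp_all] at h
    have h2 := X.smul_mem (w j)⁻¹ h
    rw [smul_smul, inv_mul_cancel₀ hj, one_smul] at h2
    exact X.smul_mem _ h2
  refine ⟨Set.range fun p : Fin n × Fin n => a p.1 p.2 - algebraMap k A ((1 : Matrix (Fin n) (Fin n) k) p.1 p.2), ?_,
    fun g => ⟨fun hg => ?_, fun hg => ?_⟩⟩
  · rintro u hu _ ⟨⟨i, j⟩, rfl⟩
    have h := congrFun ((hX (Pi.single j 1)).1 (htop ▸ Submodule.mem_top) u hu) i
    rw [hrK, Matrix.toLin'_apply, Matrix.mulVec_single_one] at h
    simp only [Matrix.col_apply, Matrix.of_apply] at h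
    rw [map_sub, AlgHom.commutes, h]
    by_cases hij : i = j
    · subst hij; simp
    · simp [Pi.single_apply, Matrix.one_apply, hij]
  · refine (LinearMap.toMatrix b b).injective ?_
    rw [LinearMap.toMatrix_one]
    ext i j
    have h := hg _ ⟨(i, j), rfl⟩
    rw [map_sub, AlgHom.commutes, sub_eq_zero] at h
    exact (ha' g i j).trans h
  · rintro _ ⟨⟨i, j⟩, rfl⟩
    rw [map_sub, AlgHom.commutes, sub_eq_zero]
    show g.ofConv (a i j) = (1 : Matrix (Fin n) (Fin n) k) i j
    rw [← ha', ← LinearMap.toMatrix_one b, ← hg]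

include hNc hNp hNn hNu in
/-- The unipotent normal subgroup cut out by a representation. -/
theorem exists_cut : ∀ (d : ℕ) (V : Type u) [AddCommGroup V] [Module k V] [FiniteDimensional k V]
    (r : RegRep (⊤ : Subgroup (Pt k A)) V), Module.finrank k V ≤ d →
    ∃ (U : Subgroup (Pt k A)) (F : Set A), (U : Set (Pt k A)) = zeros F ∧ (∀ g, conjSub g U ≤ U) ∧
      (∀ u ∈ N, ∀ f ∈ F, res u f = 0) ∧ ∀ g ∈ U, ∃ e : ℕ, (r.ρ g - 1) ^ e = 0 := by
  intro d
  induction d using Nat.strong_induction_on with
  | _ d ih =>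
  intro V _ _ _ r hd
  by_cases hV : Subsingleton V
  · exact ⟨⊤, ∅, by simp [zeros], fun _ => le_top, fun _ _ _ h => absurd h (Set.notMem_empty _),
      fun g _ => ⟨1, LinearMap.ext fun v => Subsingleton.elim _ _⟩⟩
  haveI : Nontrivial V := not_subsingleton_iff_nontrivial.1 hV
  by_cases hirr : r.Irred
  · obtain ⟨F, hF, hFz⟩ := acts_trivially N hNc hNp hNn hNu r hirr
    let U : Subgroup (Pt k A) :=
      { carrier := {g | r.ρ g = 1}
        mul_mem' := fun {g h} hg hh => by
          show r.ρ (g * h) = 1
          rw [r.map_mul g trivial h trivial, show r.ρ g = 1 from hg, show r.ρ h = 1 from hh, one_mul]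
        one_mem' := r.map_one
        inv_mem' := fun {g} hg => by
          show r.ρ g⁻¹ = 1
          have := r.map_mul g⁻¹ trivial g trivial
          rwa [inv_mul_cancel, r.map_one, show r.ρ g = 1 from hg, mul_one, eq_comm] at this }
    refine ⟨U, F, Set.ext fun g => (hFz g).symm, fun g => ?_, hF, fun g hg => ⟨1, by
      rw [pow_one, sub_eq_zero]; exact hg⟩⟩
    rintro _ ⟨h, hh, rfl⟩
    show r.ρ (g * h * g⁻¹) = 1
    rw [r.map_mul _ trivial _ trivial, r.map_mul _ trivial _ trivial, show r.ρ h = 1 from hh, mul_one,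
      ← r.map_mul _ trivial _ trivial, mul_inv_cancel, r.map_one]
  · simp only [RegRep.Irred, not_forall, not_or] at hirr
    obtain ⟨W, hW, hW0, hW1⟩ := hirr
    obtain ⟨r₁, hr₁⟩ := r.exists_sub hW
    obtain ⟨r₂, hr₂⟩ := r.exists_quot hW
    have hd₁ : Module.finrank k W < d := lt_of_lt_of_le (Submodule.finrank_lt hW1) hd
    have hd₂ : Module.finrank k (V ⧸ W) < d := by
      have h1 := W.finrank_quotient_add_finrank
      have : 0 < Module.finrank k W := Nat.pos_of_ne_zero fun h => hW0 (Submodule.finrank_eq_zero.1 h)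
      omega
    obtain ⟨U₁, F₁, hz₁, hn₁, hu₁, hnil₁⟩ := ih _ hd₁ W r₁ le_rfl
    obtain ⟨U₂, F₂, hz₂, hn₂, hu₂, hnil₂⟩ := ih _ hd₂ (V ⧸ W) r₂ le_rfl
    refine ⟨U₁ ⊓ U₂, F₁ ∪ F₂, ?_, fun g => le_inf ((Subgroup.map_mono inf_le_left).trans (hn₁ g))
      ((Subgroup.map_mono inf_le_right).trans (hn₂ g)), fun u hu f hf => hf.elim (hu₁ u hu f) (hu₂ u hu f), fun g hg => ?_⟩
    · rw [Subgroup.coe_inf, hz₁, hz₂]
      ext x
      simp [zeros, or_imp, forall_and]
    · obtain ⟨e₁, he₁⟩ := hnil₁ g hg.1
      obtain ⟨e₂, he₂⟩ := hnil₂ g hg.2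
      refine ⟨e₁ + e₂, LinearMap.ext fun v => ?_⟩
      have hq : ∀ (j : ℕ) (x : V), W.mkQ (((r.ρ g - 1) ^ j) x) = ((r₂.ρ g - 1) ^ j) (W.mkQ x) := by
        intro j
        induction j with
        | zero => intro x; simp
        | succ j hj =>
          intro x
          rw [pow_succ', pow_succ', Module.End.mul_apply, Module.End.mul_apply, ← hj]
          simp only [LinearMap.sub_apply, Module.End.one_apply, map_sub, hr₂ g trivial]
      have hs : ∀ (j : ℕ) (x : W), ((r.ρ g - 1) ^ j) (x : V) = (((r₁.ρ g - 1) ^ j) x : V) := by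
        intro j
        induction j with
        | zero => intro x; simp
        | succ j hj =>
          intro x
          rw [pow_succ', pow_succ', Module.End.mul_apply, Module.End.mul_apply, hj]
          simp only [LinearMap.sub_apply, Module.End.one_apply, Submodule.coe_sub, hr₁ g trivial]
      have hv : ((r.ρ g - 1) ^ e₂) v ∈ W := by
        rw [← Submodule.Quotient.mk_eq_zero, ← Submodule.mkQ_apply, hq, he₂, LinearMap.zero_apply]
      rw [pow_add, Module.End.mul_apply, hs e₁ ⟨_, hv⟩, he₁]
      rfl

include hNc hNp hNn hNu in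
theorem eq_bot (hconn : _root_.IsPreconnected (Set.univ : Set (Pt k A))) (hred : IsRedPts k A) : N = ⊥ := by
  classical
  obtain ⟨V, _, _, _, r, hr⟩ := exists_faithful (k := k) (A := A)
  obtain ⟨U, F, hz, hn, hu, hnil⟩ := exists_cut N hNc hNp hNn hNu _ V r le_rfl
  have hUc : IsClosed (U : Set (Pt k A)) := hz ▸ isClosed_zeros F
  have h0 : neut U = ⊥ := hred _ (isClosed_neut hUc) (isPreconnected_neut _)
    (fun g => le_neut (isPreconnected_conjSub (isPreconnected_neut _)) ((conjSub_mono (neut_le _)).trans (hn g)))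
    (uni_of_noTor (isClosed_neut hUc) (isPreconnected_neut _) fun T hle hT => eq_bot_iff.2 fun t ht => by
      obtain ⟨e, he⟩ := hnil t (neut_le _ (hle ht))
      exact Subgroup.mem_bot.2 (hT.eq_one_of_unip r hr ht he)).2
  obtain ⟨R, -, hR⟩ := exists_neut_cosets hUc
  have hfin : (U : Set (Pt k A)) ⊆ R := fun g hg => by
    obtain ⟨x, hx, hxg⟩ := hR g hg
    rw [h0, Subgroup.mem_bot, inv_mul_eq_one] at hxg
    exact hxg ▸ hx
  have hsub : (N : Set (Pt K (K ⊗[k] A))) ⊆ (ext (K := K)) '' (R : Set (Pt k A)) := fun u huN => by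
    by_contra hne
    have hg : ∀ g : Pt k A, g ∈ R → ∃ a, res u a ≠ algebraMap k K (g.ofConv a) := fun g hgR => by
      by_contra hc
      push Not at hc
      exact hne ⟨g, hgR, ext_res fun a => by rw [res_ext, hc]⟩
    choose! a ha using hg
    let P : A := ∏ g ∈ R, (a g - algebraMap k A (g.ofConv (a g)))
    let I := Ideal.span F
    have hP : IsNilpotent (Ideal.Quotient.mk I P) := by
      by_contra hnp
      obtain ⟨x, hx⟩ := exists_pt_ne (k := k) (R := A ⧸ I) hnp
      refine hx ?_
      let g : Pt k A := toConv (x.ofConv.comp (Ideal.Quotient.mkₐ k I))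
      have hgU : g ∈ R := hfin (hz ▸ fun f hf => by
        show x.ofConv (Ideal.Quotient.mk I f) = 0
        rw [Ideal.Quotient.eq_zero_iff_mem.2 (Ideal.subset_span hf), map_zero])
      show g.ofConv P = 0
      rw [map_prod]
      refine Finset.prod_eq_zero hgU ?_
      rw [map_sub, AlgHom.commutes, sub_eq_zero]
      rfl
    have h2 : I ≤ RingHom.ker (res u).toRingHom := Ideal.span_le.2 fun f hf => hu u huN f hf
    obtain ⟨e, he⟩ := hP
    rw [← map_pow, Ideal.Quotient.eq_zero_iff_mem] at he
    have h3 : res u P ^ e = 0 := by rw [← map_pow]; exact h2 he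
    have h4 := eq_zero_of_pow_eq_zero h3
    rw [map_prod, Finset.prod_eq_zero_iff] at h4
    obtain ⟨g, hgR, h5⟩ := h4
    rw [map_sub, AlgHom.commutes, sub_eq_zero] at h5
    exact ha g hgR h5
  have hNfin : (N : Set (Pt K (K ⊗[k] A))).Finite := (R.finite_toSet.image _).subset hsub
  haveI : T1Space (Pt K (K ⊗[k] A)) := ⟨fun x => by
    have e : ({x} : Set (Pt K (K ⊗[k] A))) =
        zeros (Set.range fun y => y - algebraMap K (K ⊗[k] A) (x.ofConv y)) := by
      ext y
      refine ⟨fun h => ?_, fun h => ?_⟩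
      · rintro _ ⟨z, rfl⟩
        obtain rfl := Set.mem_singleton_iff.1 h
        show y.ofConv _ = 0
        rw [map_sub, AlgHom.commutes]
        exact sub_self _
      · refine WithConv.ext (AlgHom.ext fun z => ?_)
        have h' := h _ ⟨z, rfl⟩
        rwa [map_sub, AlgHom.commutes, sub_eq_zero] at h'
    rw [e]
    exact isClosed_zeros _⟩
  refine eq_bot_iff.2 fun u huN => Subgroup.mem_bot.2 ?_
  by_contra hne
  exact hNp.infinite_of_nontrivial ⟨u, huN, 1, N.one_mem, hne⟩ hNfin

end RedExt

variable {k : Type u} [Field k] [IsAlgClosed k] {A : Type u} [CommRing A] [HopfAlgebra k A] [Algebra.FiniteType k A]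
  [_root_.IsReduced A]

/-- Reductive groups of points stay reductive over algebraically closed extensions. -/
theorem isRedPts_tensor (K : Type u) [Field K] [IsAlgClosed K] [Algebra k K]
    (hconn : _root_.IsPreconnected (Set.univ : Set (Pt k A))) (hred : IsRedPts k A) : IsRedPts K (K ⊗[k] A) :=
  fun N hc hp hn hu => RedExt.eq_bot N hc hp hn hu hconn hred

end Groth.Agent.BorelLib
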